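import Mathlib

/-!
Two binary forms representing a prime `m ≡ 3 (mod 8)`, `m ≡ 2 (mod 5)`, and a supply of such primes.
-/

set_option autoImplicit false

namespace CfsgLib.DivSL25

/-- Thue's lemma. -/
theorem thue {m : ℕ} [NeZero m] (A B : ℕ) (h : m < (A + 1) * (B + 1)) (r : ZMod m) :
    ∃ x y : ℤ, (x ≠ 0 ∨ y ≠ 0) ∧ |x| ≤ A ∧ |y| ≤ B ∧ (x : ZMod m) = r * (y : ZMod m) := by
  obtain ⟨u, v, hne, he⟩ := Fintype.exists_ne_map_eq_of_card_lt
    (fun u : Fin (A + 1) × Fin (B + 1) => ((u.1 : ℕ) : ZMod m) - r * ((u.2 : ℕ) : ZMod m))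
    (by rw [ZMod.card, Fintype.card_prod, Fintype.card_fin, Fintype.card_fin]; exact h)
  refine ⟨(u.1 : ℕ) - (v.1 : ℕ), (u.2 : ℕ) - (v.2 : ℕ), ?_, ?_, ?_, ?_⟩
  · by_contra hc
    push Not at hc
    exact hne (Prod.ext (Fin.ext (by omega)) (Fin.ext (by omega)))
  · have := u.1.isLt; have := v.1.isLt; rw [abs_le]; constructor <;> omega
  · have := u.2.isLt; have := v.2.isLt; rw [abs_le]; constructor <;> omega
  · push_cast
    linear_combination he

theorem dvd_form {m : ℕ} [Fact m.Prime] {r : ZMod m} {c x y : ℤ} (hr : r * r = c)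
    (hxy : (x : ZMod m) = r * (y : ZMod m)) : (m : ℤ) ∣ x ^ 2 - c * y ^ 2 := by
  rw [← ZMod.intCast_zmod_eq_zero_iff_dvd]
  push_cast
  rw [hxy]
  linear_combination (y : ZMod m) ^ 2 * hr

theorem exists_two_sq {m : ℕ} [hm : Fact m.Prime] (h8 : m % 8 = 3) :
    ∃ a b : ℤ, a ^ 2 + 2 * b ^ 2 = m := by
  obtain ⟨r, hr⟩ := (ZMod.exists_sq_eq_neg_two_iff (p := m) (by omega)).mpr (Or.inr h8)
  set k := Nat.sqrt m
  have hk1 : k * k ≤ m := Nat.sqrt_le m
  have hk2 : m < (k + 1) * (k + 1) := Nat.lt_succ_sqrt m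
  have hk3 : k * k ≠ m := fun e => by
    have := hm.out.eq_one_or_self_of_dvd k ⟨k, e.symm⟩
    rcases this with h | h <;> rw [h] at e
    · omega
    · nlinarith [hm.out.two_le]
  obtain ⟨x, y, hne, hx, hy, hxy⟩ := thue k k hk2 r
  obtain ⟨t, ht⟩ := dvd_form (c := -2) (by rw [← hr]; push_cast; ring) hxy
  have hklt : (k : ℤ) * k < m := by exact_mod_cast lt_of_le_of_ne hk1 hk3
  have h1 : x ^ 2 ≤ (k : ℤ) * k := by rw [← sq_abs, pow_two]; exact mul_self_le_mul_self (abs_nonneg x) hx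
  have h2 : y ^ 2 ≤ (k : ℤ) * k := by rw [← sq_abs, pow_two]; exact mul_self_le_mul_self (abs_nonneg y) hy
  have h3 : 0 < x ^ 2 + 2 * y ^ 2 := by rcases hne with h | h <;> positivity
  have hmpos : (0 : ℤ) < m := by exact_mod_cast hm.out.pos
  have ht0 : 0 < t := by nlinarith
  have ht3 : t < 3 := by nlinarith
  interval_cases t
  · exact ⟨x, y, by linarith⟩
  · have he : Even x := by
      rcases Int.even_or_odd x with h | ⟨u, rfl⟩
      · exact h
      · exfalso; ring_nf at ht; omega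
    obtain ⟨u, rfl⟩ := he
    exact ⟨y, u, by linarith⟩

theorem eq_zero_of_sq {x y : ℤ} (h : x ^ 2 = 10 * y ^ 2) : x = 0 ∧ y = 0 := by
  by_cases hy : y = 0
  · subst hy; exact ⟨by simpa using h, rfl⟩
  exfalso
  have hsq : IsSquare ((10 : ℤ) : ℚ) := by
    refine ⟨(x : ℚ) / y, ?_⟩
    have h' : (x : ℚ) ^ 2 = 10 * (y : ℚ) ^ 2 := by exact_mod_cast h
    have hyq : (y : ℚ) ≠ 0 := by exact_mod_cast hy
    field_simp
    push_cast
    linarith
  rw [Rat.isSquare_intCast_iff] at hsq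
  obtain ⟨c, hc⟩ := hsq
  have : c.natAbs * c.natAbs = 10 := by rw [← Int.natAbs_mul, ← hc]; rfl
  have : c.natAbs < 4 := by nlinarith
  interval_cases c.natAbs <;> omega

set_option maxHeartbeats 2000000 in
theorem exists_ten_form {m : ℕ} [hm : Fact m.Prime] (h8 : m % 8 = 3) (h5 : m % 5 = 2) :
    ∃ w s : ℤ, 2 * w ^ 2 - 5 * s ^ 2 = m ∧ w ≠ 0 := by
  haveI : Fact (Nat.Prime 5) := ⟨by norm_num⟩
  have hm2 : m ≠ 2 := by omega
  have hm5 : m ≠ 5 := by omega
  have h2 : legendreSym m 2 = -1 := by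
    rw [legendreSym.at_two hm2, ZMod.χ₈_nat_eq_if_mod_eight, h8]
    simp [show m % 2 ≠ 0 by omega]
  have h5' : legendreSym m 5 = -1 := by
    have := legendreSym.quadratic_reciprocity_one_mod_four (p := 5) (q := m) (by norm_num) hm2
    rw [Nat.cast_ofNat] at this
    rw [this, legendreSym.mod, show ((m : ℤ) % ((5 : ℕ) : ℤ)) = 2 by omega, legendreSym.at_two (by norm_num)]
    decide
  have hne : ((10 : ℤ) : ZMod m) ≠ 0 := by
    rw [Ne, ZMod.intCast_zmod_eq_zero_iff_dvd]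
    intro h
    have h' : m ∣ 2 * 5 := by exact_mod_cast h
    rcases hm.out.dvd_mul.mp h' with h' | h'
    · exact hm2 ((Nat.prime_dvd_prime_iff_eq hm.out Nat.prime_two).mp h')
    · exact hm5 ((Nat.prime_dvd_prime_iff_eq hm.out (by norm_num)).mp h')
  have h10 : legendreSym m (2 * 5) = 1 := by rw [legendreSym.mul, h2, h5']; rfl
  obtain ⟨r, hr⟩ := (legendreSym.eq_one_iff m hne).mp h10
  set A := Nat.sqrt (4 * m - 1)
  set B := Nat.sqrt ((2 * m - 1) / 5)
  have hA1 : A * A ≤ 4 * m - 1 := Nat.sqrt_le _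
  have hA2 : 4 * m - 1 < (A + 1) * (A + 1) := Nat.lt_succ_sqrt _
  have hB1 : B * B ≤ (2 * m - 1) / 5 := Nat.sqrt_le _
  have hB2 : (2 * m - 1) / 5 < (B + 1) * (B + 1) := Nat.lt_succ_sqrt _
  have hprod : m < (A + 1) * (B + 1) := by
    by_contra hc
    push Not at hc
    have hA3 : 4 * m ≤ (A + 1) * (A + 1) := by omega
    have hB3 : 2 * m ≤ 5 * ((B + 1) * (B + 1)) := by omega
    have := Nat.mul_le_mul hA3 hB3
    have := Nat.mul_le_mul hc hc
    have := hm.out.two_le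
    nlinarith
  obtain ⟨x, y, hne', hx, hy, hxy⟩ := thue A B hprod r
  obtain ⟨t, ht⟩ := dvd_form (c := 10) hr.symm hxy
  have hm3 : (3 : ℤ) ≤ m := by exact_mod_cast (show 3 ≤ m by omega)
  have h1 : x ^ 2 < 4 * (m : ℤ) := by
    have e : x ^ 2 ≤ (A : ℤ) * A := by rw [← sq_abs, pow_two]; exact mul_self_le_mul_self (abs_nonneg x) hx
    have : ((A * A : ℕ) : ℤ) < 4 * (m : ℤ) := by omega
    push_cast at this
    linarith
  have h2' : 10 * y ^ 2 < 4 * (m : ℤ) := by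
    have e : y ^ 2 ≤ (B : ℤ) * B := by rw [← sq_abs, pow_two]; exact mul_self_le_mul_self (abs_nonneg y) hy
    have : 10 * ((B * B : ℕ) : ℤ) < 4 * (m : ℤ) := by omega
    push_cast at this
    linarith
  have hpos : ∀ w s : ℤ, (2 * w ^ 2 - 5 * s ^ 2 = m ∨ 2 * w ^ 2 - 5 * s ^ 2 = -m) →
      ∃ w s : ℤ, 2 * w ^ 2 - 5 * s ^ 2 = m ∧ w ≠ 0 := by
    intro w s h
    have key : ∀ w s : ℤ, 2 * w ^ 2 - 5 * s ^ 2 = m → w ≠ 0 := by
      rintro w s h rfl
      nlinarith [sq_nonneg s]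
    rcases h with h | h
    · exact ⟨w, s, h, key w s h⟩
    · have h' : 2 * (3 * w + 5 * s) ^ 2 - 5 * (2 * w + 3 * s) ^ 2 = (m : ℤ) := by linear_combination -h
      exact ⟨_, _, h', key _ _ h'⟩
  have hev : ∀ x y : ℤ, (x ^ 2 - 10 * y ^ 2 = 2 * m ∨ x ^ 2 - 10 * y ^ 2 = -(2 * m)) →
      ∃ w s : ℤ, 2 * w ^ 2 - 5 * s ^ 2 = m ∧ w ≠ 0 := by
    intro x y h
    rcases Int.even_or_odd' x with ⟨u, rfl | rfl⟩
    · exact hpos u y (h.imp (fun h => by linarith) (fun h => by linarith))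
    · exfalso; ring_nf at h; omega
  have htlo : -4 < t := by nlinarith [sq_nonneg x]
  have hthi : t < 4 := by nlinarith [sq_nonneg y]
  have hmod : (m : ℤ) % 5 = 2 := by omega
  have hsq5 : x ^ 2 % 5 = 0 ∨ x ^ 2 % 5 = 1 ∨ x ^ 2 % 5 = 4 := by
    have h := Int.emod_nonneg x (show (5 : ℤ) ≠ 0 by norm_num)
    have h' := Int.emod_lt_of_pos x (show (0 : ℤ) < 5 by norm_num)
    rw [pow_two, Int.mul_emod]
    interval_cases x % 5 <;> omega
  have h3t : t = 3 ∨ t = -3 → ∃ w s : ℤ, 2 * w ^ 2 - 5 * s ^ 2 = m ∧ w ≠ 0 := by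
    intro ht'
    have hy3 : (3 : ℤ) ∣ (x + 2 * y) * (x - 2 * y) := by
      rcases ht' with rfl | rfl
      · exact ⟨m + 2 * y ^ 2, by linear_combination ht⟩
      · exact ⟨-m + 2 * y ^ 2, by linear_combination ht⟩
    have main : ∀ y : ℤ, x ^ 2 - 10 * y ^ 2 = m * t → (3 : ℤ) ∣ x + 2 * y →
        ∃ w s : ℤ, 2 * w ^ 2 - 5 * s ^ 2 = m ∧ w ≠ 0 := by
      rintro y hy' ⟨u, hu⟩
      have hx' : x = 3 * u - 2 * y := by linarith
      subst hx'
      apply hev (2 * u + 2 * y) u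
      rcases ht' with rfl | rfl
      · right
        linarith
      · left
        linarith
    rcases (Int.prime_three.dvd_mul).mp hy3 with h | h
    · exact main y ht h
    · exact main (-y) (by linear_combination ht) (by rwa [mul_neg, ← sub_eq_add_neg])
  interval_cases t
  · exact h3t (Or.inr rfl)
  · exact hev x y (Or.inr (by linarith))
  · exfalso; omega
  · exfalso
    obtain ⟨rfl, rfl⟩ := eq_zero_of_sq (x := x) (y := y) (by linarith)
    simp at hne'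
  · exfalso; omega
  · exact hev x y (Or.inl (by linarith))
  · exact h3t (Or.inl rfl)

theorem exists_prime {q : ℕ} (hq : q.Prime) (h7 : 7 ≤ q) :
    ∃ m : ℕ, m.Prime ∧ m % 8 = 3 ∧ m % 5 = 2 ∧ q ∣ m + 1 := by
  have hco1 : Nat.Coprime 8 5 := by norm_num
  have hco2 : Nat.Coprime (8 * 5) q := by
    refine (Nat.coprime_primes Nat.prime_two hq |>.mpr (by omega) |>.pow_left 3).mul_left ?_
    exact Nat.coprime_primes (by norm_num) hq |>.mpr (by omega)
  obtain ⟨c, hc1, hc2⟩ := Nat.chineseRemainder hco2 27 (q - 1)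
  have hunit : IsUnit ((c : ℕ) : ZMod (8 * 5 * q)) := by
    rw [ZMod.isUnit_iff_coprime]
    refine Nat.Coprime.mul_right ?_ ?_
    · rw [Nat.coprime_iff_gcd_eq_one, hc1.gcd_eq]
      rfl
    · rw [Nat.coprime_iff_gcd_eq_one, hc2.gcd_eq, ← Nat.coprime_iff_gcd_eq_one, Nat.coprime_comm,
        hq.coprime_iff_not_dvd]
      intro h
      have := Nat.le_of_dvd (by omega) h
      omega
  haveI : NeZero (8 * 5 * q) := ⟨by positivity⟩
  obtain ⟨m, ⟨hmp, hmc⟩⟩ := (Nat.infinite_setOf_prime_and_eq_mod hunit).nonempty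
  rw [ZMod.natCast_eq_natCast_iff] at hmc
  have h40 : m % 40 = 27 := (hmc.of_mul_right q).trans hc1
  have hq' : m ≡ q - 1 [MOD q] := (hmc.of_mul_left (8 * 5)).trans hc2
  refine ⟨m, hmp, by omega, by omega, ?_⟩
  have : m + 1 ≡ 0 [MOD q] := by
    have h := hq'.add_right 1
    rw [show q - 1 + 1 = q by omega] at h
    exact h.trans (Nat.modEq_zero_iff_dvd.mpr dvd_rfl)
  exact Nat.modEq_zero_iff_dvd.mp this

end CfsgLib.DivSL25
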