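import Mathlib

/-!
The classical identity `Y² + m Z² = 4 Φ_m` of Gauss for a prime `m ≡ 3 (mod 4)`.
-/

set_option autoImplicit false

namespace CfsgLib.DivSL25

open Polynomial Finset

section

variable {m : ℕ} [hm : Fact m.Prime]

/-- Squares (nonzero) in `ZMod m`. -/
noncomputable def qres (m : ℕ) [Fact m.Prime] : Finset (ZMod m) :=
  Finset.univ.filter fun a => quadraticChar (ZMod m) a = 1

/-- The coefficient polynomial attached to a residue. -/
noncomputable def periodPoly (k : ZMod m) : ℚ[X] :=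
  ∑ t ∈ (qres m).powerset.filter (fun t => ∑ a ∈ t, a = k),
    (-1) ^ #t * X ^ #(qres m \ t)

theorem mem_qres {a : ZMod m} : a ∈ qres m ↔ quadraticChar (ZMod m) a = 1 := by
  simp [qres]

theorem image_mem_filter {r : ZMod m} (hr : r ∈ qres m) {k : ZMod m} {t : Finset (ZMod m)}
    (ht : t ∈ (qres m).powerset.filter (fun t => ∑ a ∈ t, a = k)) :
    t.image (r * ·) ∈ (qres m).powerset.filter (fun t => ∑ a ∈ t, a = r * k) := by
  rw [mem_filter, mem_powerset] at ht ⊢
  have hr0 : r ≠ 0 := by rintro rfl; simp [mem_qres] at hr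
  refine ⟨fun x hx => ?_, ?_⟩
  · obtain ⟨a, ha, rfl⟩ := Finset.mem_image.mp hx
    rw [mem_qres, map_mul, mem_qres.mp hr, mem_qres.mp (ht.1 ha), one_mul]
  · rw [Finset.sum_image (fun a _ b _ e => mul_left_cancel₀ hr0 e), ← Finset.mul_sum, ht.2]

theorem periodPoly_mul {r : ZMod m} (hr : r ∈ qres m) (k : ZMod m) :
    periodPoly (r * k) = periodPoly k := by
  have hr0 : r ≠ 0 := by rintro rfl; simp [mem_qres] at hr
  have hr' : r⁻¹ ∈ qres m := by
    rw [mem_qres]
    have h := mem_qres.mp hr
    have : quadraticChar (ZMod m) (r * r⁻¹) = 1 := by rw [mul_inv_cancel₀ hr0, map_one]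
    rwa [map_mul, h, one_mul] at this
  symm
  refine Finset.sum_nbij' (fun t => t.image (r * ·)) (fun t => t.image (r⁻¹ * ·))
    (fun t ht => image_mem_filter hr ht) (fun t ht => ?_) (fun t _ => ?_) (fun t _ => ?_) (fun t ht => ?_)
  · have := image_mem_filter hr' ht
    rwa [inv_mul_cancel_left₀ hr0] at this
  · simp [Finset.image_image, Function.comp_def, inv_mul_cancel_left₀ hr0]
  · simp [Finset.image_image, Function.comp_def, mul_inv_cancel_left₀ hr0]
  · have hsub := (mem_powerset.mp (mem_filter.mp ht).1)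
    have h1 := (mem_powerset.mp (mem_filter.mp (image_mem_filter hr ht)).1)
    have hc : #(t.image (r * ·)) = #t := card_image_of_injective _ (mul_right_injective₀ hr0)
    rw [card_sdiff_of_subset hsub, card_sdiff_of_subset h1, hc]

theorem addChar_sum (ψ : AddChar (ZMod m) ℂ) (t : Finset (ZMod m)) : ψ (∑ a ∈ t, a) = ∏ a ∈ t, ψ a := by
  classical
  induction t using Finset.induction_on with
  | empty => simp [AddChar.map_zero_eq_one]
  | insert a t ha ih => rw [Finset.sum_insert ha, Finset.prod_insert ha, AddChar.map_add_eq_mul, ih]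

/-- The product over the squares. -/
noncomputable def periodProd (ψ : AddChar (ZMod m) ℂ) : ℂ[X] :=
  ∏ r ∈ qres m, (X - C (ψ r))

theorem periodProd_eq_sum (ψ : AddChar (ZMod m) ℂ) :
    periodProd ψ = ∑ k, C (ψ k) * (periodPoly k).map (algebraMap ℚ ℂ) := by
  classical
  rw [periodProd, prod_sub, ← Finset.sum_fiberwise (qres m).powerset (fun t => ∑ a ∈ t, a)]
  refine Finset.sum_congr rfl fun k _ => ?_
  rw [periodPoly, Polynomial.map_sum, Finset.mul_sum]
  refine Finset.sum_congr rfl fun t ht => ?_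
  rw [← map_prod, ← addChar_sum, (mem_filter.mp ht).2, Finset.prod_const]
  simp only [Polynomial.map_mul, Polynomial.map_pow, Polynomial.map_neg, Polynomial.map_one, map_X]
  ring

theorem neg_one_char (h4 : m % 4 = 3) : quadraticChar (ZMod m) (-1) = -1 := by
  rw [quadraticChar_neg_one (by rw [ZMod.ringChar_zmod_n]; omega), ZMod.card]
  exact ZMod.χ₄_nat_three_mod_four h4

/-- The Gauss sum of the quadratic character. -/
noncomputable def gsum (ψ : AddChar (ZMod m) ℂ) : ℂ :=
  gaussSum ((quadraticChar (ZMod m)).ringHomComp (Int.castRingHom ℂ)) ψ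

theorem two_mul_periodProd (h4 : m % 4 = 3) {ψ : AddChar (ZMod m) ℂ} (hψ : ψ ≠ 1) :
    C 2 * periodProd ψ =
      ((C 2 * periodPoly (m := m) 0 - periodPoly (m := m) 1 - periodPoly (m := m) (-1))).map (algebraMap ℚ ℂ)
        + C (gsum ψ) * (periodPoly (m := m) 1 - periodPoly (m := m) (-1)).map (algebraMap ℚ ℂ) := by
  classical
  set q := quadraticChar (ZMod m) with hq
  set R' := (Finset.univ : Finset (ZMod m)).filter fun a => q a = -1 with hR'
  have hsplit : ∀ {β : Type} [AddCommMonoid β] (f : ZMod m → β),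
      ∑ k, f k = f 0 + (∑ k ∈ qres m, f k + ∑ k ∈ R', f k) := by
    intro β _ f
    rw [← Finset.add_sum_erase _ _ (Finset.mem_univ (0 : ZMod m)), ← Finset.sum_union]
    · congr 1
      refine Finset.sum_congr ?_ fun _ _ => rfl
      ext a
      simp only [Finset.mem_erase, Finset.mem_union, mem_qres, hR', Finset.mem_filter, Finset.mem_univ,
        and_true, true_and]
      refine ⟨fun ha => quadraticChar_dichotomy ha, fun h ha => ?_⟩
      subst ha
      simp [hq] at h
    · rw [Finset.disjoint_left]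
      intro a ha ha'
      rw [mem_qres] at ha
      rw [hR', Finset.mem_filter, hq, ha] at ha'
      exact absurd ha'.2 (by norm_num)
  have h0 := AddChar.sum_eq_zero_of_ne_one hψ
  rw [hsplit, AddChar.map_zero_eq_one] at h0
  have hg : gsum ψ = ∑ k ∈ qres m, ψ k - ∑ k ∈ R', ψ k := by
    rw [gsum, gaussSum, hsplit, sub_eq_add_neg, ← Finset.sum_neg_distrib]
    simp only [MulChar.ringHomComp_apply]
    rw [quadraticChar_zero, map_zero, zero_mul, zero_add]
    congr 1 <;> refine Finset.sum_congr rfl fun a ha => ?_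
    · rw [mem_qres.mp ha]; simp
    · rw [(Finset.mem_filter.mp ha).2]; simp
  rw [periodProd_eq_sum, hsplit, AddChar.map_zero_eq_one]
  have e1 : ∀ k ∈ qres m, C (ψ k) * (periodPoly k).map (algebraMap ℚ ℂ) =
      C (ψ k) * (periodPoly (m := m) 1).map (algebraMap ℚ ℂ) := fun k hk => by
    rw [← periodPoly_mul hk 1, mul_one]
  have e2 : ∀ k ∈ R', C (ψ k) * (periodPoly k).map (algebraMap ℚ ℂ) =
      C (ψ k) * (periodPoly (m := m) (-1)).map (algebraMap ℚ ℂ) := fun k hk => by
    have hk' : -k ∈ qres m := by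
      rw [mem_qres, ← neg_one_mul, map_mul, neg_one_char h4, (Finset.mem_filter.mp hk).2]; rfl
    have := periodPoly_mul hk' (-1)
    rw [neg_mul_neg, mul_one] at this
    rw [this]
  rw [Finset.sum_congr rfl e1, Finset.sum_congr rfl e2, ← Finset.sum_mul, ← Finset.sum_mul,
    ← map_sum (C : ℂ →+* ℂ[X]), ← map_sum (C : ℂ →+* ℂ[X])]
  have ea : 2 * (∑ k ∈ qres m, ψ k) = -1 + gsum ψ := by linear_combination h0 - hg
  have eb : 2 * (∑ k ∈ R', ψ k) = -1 - gsum ψ := by linear_combination h0 + hg
  have ea' := congrArg C ea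
  have eb' := congrArg C eb
  simp only [map_mul, map_add, map_sub, map_neg, map_one] at ea' eb'
  simp only [Polynomial.map_sub, Polynomial.map_mul, map_C, map_ofNat, map_one, one_mul, Polynomial.map_ofNat] at ea' eb' ⊢
  linear_combination (periodPoly (m := m) 1).map (algebraMap ℚ ℂ) * ea'
    + (periodPoly (m := m) (-1)).map (algebraMap ℚ ℂ) * eb'

/-- Gauss' identity. -/
theorem exists_period_identity (h4 : m % 4 = 3) :
    ∃ Y Z : ℚ[X], Y ^ 2 + (m : ℚ[X]) * Z ^ 2 = 4 * ∑ i ∈ Finset.range m, X ^ i := by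
  classical
  have hroot := Complex.isPrimitiveRoot_exp m hm.out.ne_zero
  set ζ := Complex.exp (2 * Real.pi * Complex.I / m) with hζ
  set ψ : AddChar (ZMod m) ℂ := AddChar.zmodChar m hroot.pow_eq_one with hψdef
  have hprim : ψ.IsPrimitive := AddChar.zmodChar_primitive_of_primitive_root m hroot
  have hψ : ψ ≠ 1 := by
    have := hprim one_ne_zero
    rwa [AddChar.mulShift_one] at this
  have hψ' : ψ⁻¹ ≠ 1 := inv_ne_one.mpr hψ
  set χ := (quadraticChar (ZMod m)).ringHomComp (Int.castRingHom ℂ) with hχ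
  have hχneg : χ (-1) = -1 := by
    rw [hχ, MulChar.ringHomComp_apply, neg_one_char h4]; simp
  have hg2 : gsum ψ ^ 2 = -(m : ℂ) := by
    rw [gsum, gaussSum_sq ?_ (MulChar.IsQuadratic.comp (quadraticChar_isQuadratic _) _) hprim, hχneg, ZMod.card, neg_one_mul]
    exact (MulChar.ringHomComp_ne_one_iff (RingHom.injective_int _)).mpr
      (quadraticChar_ne_one (by rw [ZMod.ringChar_zmod_n]; omega))
  have hginv : gsum ψ⁻¹ = -gsum ψ := by
    have := gaussSum_mulShift χ ψ (-1)
    rw [Units.val_neg, Units.val_one, hχneg, ← AddChar.inv_mulShift, neg_one_mul] at this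
    rw [gsum, gsum, ← hχ, ← this, neg_neg]
  have hneg : periodProd ψ⁻¹ = ∏ r ∈ Finset.univ.filter (fun a => quadraticChar (ZMod m) a = -1),
      (X - C (ψ r)) := by
    refine Finset.prod_nbij' (fun a => -a) (fun a => -a) (fun a ha => ?_) (fun a ha => ?_)
      (fun a _ => neg_neg a) (fun a _ => neg_neg a) (fun a _ => by rw [AddChar.inv_apply])
    · rw [mem_filter]
      exact ⟨mem_univ _, by rw [← neg_one_mul, map_mul, neg_one_char h4, mem_qres.mp ha, mul_one]⟩
    · rw [mem_qres, ← neg_one_mul, map_mul, neg_one_char h4, (mem_filter.mp ha).2]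
      rfl
  have hall : (X - C 1) * (periodProd ψ * periodProd ψ⁻¹) = X ^ m - 1 := by
    rw [hneg, periodProd, ← Finset.prod_union ?_]
    swap
    · rw [Finset.disjoint_left]
      intro a ha ha'
      rw [mem_qres] at ha
      rw [Finset.mem_filter] at ha'
      omega
    have e : qres m ∪ Finset.univ.filter (fun a => quadraticChar (ZMod m) a = -1) = Finset.univ.erase 0 := by
      ext a
      simp only [Finset.mem_erase, Finset.mem_union, mem_qres, Finset.mem_filter, Finset.mem_univ,
        and_true, true_and]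
      refine ⟨fun h ha => ?_, fun ha => quadraticChar_dichotomy ha⟩
      subst ha
      simp at h
    have h1 : (X - C 1 : ℂ[X]) = X - C (ψ 0) := by rw [AddChar.map_zero_eq_one]
    rw [e, h1, Finset.mul_prod_erase _ (fun a => X - C (ψ a)) (Finset.mem_univ 0), ← C_1,
      X_pow_sub_C_eq_prod hroot hm.out.pos (α := 1) (one_pow m)]
    refine Finset.prod_nbij' (fun a : ZMod m => a.val) (fun i : ℕ => (i : ZMod m))
      (fun a _ => Finset.mem_range.mpr a.val_lt) (fun i _ => Finset.mem_univ _)
      (fun a _ => ZMod.natCast_zmod_val a)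
      (fun i hi => ZMod.val_cast_of_lt (Finset.mem_range.mp hi)) (fun a _ => ?_)
    rw [hψdef, AddChar.zmodChar_apply, mul_one]
  refine ⟨C 2 * periodPoly (m := m) 0 - periodPoly (m := m) 1 - periodPoly (m := m) (-1),
    periodPoly (m := m) 1 - periodPoly (m := m) (-1), ?_⟩
  apply Polynomial.map_injective (algebraMap ℚ ℂ) (algebraMap ℚ ℂ).injective
  apply mul_left_cancel₀ (show (X - C 1 : ℂ[X]) ≠ 0 from X_sub_C_ne_zero 1)
  have hA := two_mul_periodProd h4 hψ
  have hB := two_mul_periodProd h4 hψ'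
  rw [hginv, map_neg] at hB
  have hg2' := congrArg (C : ℂ →+* ℂ[X]) hg2
  rw [map_pow, map_neg, map_natCast] at hg2'
  have hgeom := geom_sum_mul (X : ℂ[X]) m
  simp only [Polynomial.map_add, Polynomial.map_mul, Polynomial.map_pow, Polynomial.map_natCast,
    Polynomial.map_ofNat, Polynomial.map_sum, map_X]
  simp only [map_one, map_ofNat] at hall hA hB ⊢
  linear_combination (4 : ℂ[X]) * hall - (4 : ℂ[X]) * hgeom
    - (X - 1) * ((2 : ℂ[X]) * periodProd ψ⁻¹) * hA
    - (X - 1) * (Polynomial.map (algebraMap ℚ ℂ) (2 * periodPoly (m := m) 0 - periodPoly (m := m) 1 - periodPoly (m := m) (-1)) + C (gsum ψ) * Polynomial.map (algebraMap ℚ ℂ) (periodPoly (m := m) 1 - periodPoly (m := m) (-1))) * hB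
    + (X - 1) * (Polynomial.map (algebraMap ℚ ℂ) (periodPoly (m := m) 1 - periodPoly (m := m) (-1))) ^ 2 * hg2'

end

end CfsgLib.DivSL25
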