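import Mathlib
import Cfsg.Agent.DivSL25.Central
import Cfsg.Agent.DivSL25.Period
import Cfsg.Agent.DivSL25.NumberTheory

/-!
No element of prime order `q ≥ 7` commutes with `SL(2,5)` in a division ring of characteristic zero.
-/

set_option autoImplicit false

namespace CfsgLib.DivSL25

section Quat

variable {R : Type*} [Ring R] {i j : R}

theorem quat_rules (hi : i * i = -1) (hj : j * j = -1) (hji : j * i = -(i * j)) :
    i * (i * j) = -j ∧ i * j * i = j ∧ j * (i * j) = i ∧ i * j * j = -i ∧ i * j * (i * j) = -1 := by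
  have h1 : i * (i * j) = -j := by rw [← mul_assoc, hi, neg_one_mul]
  have h2 : i * j * i = j := by rw [mul_assoc, hji, mul_neg, h1, neg_neg]
  have h3 : j * (i * j) = i := by rw [← mul_assoc, hji, neg_mul, mul_assoc, hj, mul_neg_one, neg_neg]
  have h4 : i * j * j = -i := by rw [mul_assoc, hj, mul_neg_one]
  refine ⟨h1, h2, h3, h4, ?_⟩
  rw [← mul_assoc, h2, hj]

theorem quat_forms (hi : i * i = -1) (hj : j * j = -1) (hji : j * i = -(i * j)) (a b : ℤ) :
    (a • i + b • j + b • (i * j)) * (a • i + b • j + b • (i * j)) = -(((a ^ 2 + 2 * b ^ 2 : ℤ) : R)) ∧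
    (j - i * j) * (j - i * j) = -((2 : ℤ) : R) ∧
    (j - i * j) * (a • i + b • j + b • (i * j)) = -((a • i + b • j + b • (i * j)) * (j - i * j)) := by
  obtain ⟨h1, h2, h3, h4, h5⟩ := quat_rules hi hj hji
  refine ⟨?_, ?_, ?_⟩
  · simp only [mul_add, add_mul, smul_mul_assoc, mul_smul_comm, smul_smul, hi, hj, hji, h1, h2, h3, h4, h5,
      smul_neg, ← zsmul_one (a ^ 2 + 2 * b ^ 2)]
    module
  · simp only [sub_mul, mul_sub, hj, h3, h4, h5, ← zsmul_one (2 : ℤ)]
    module
  · simp only [mul_add, add_mul, sub_mul, mul_sub, smul_mul_assoc, mul_smul_comm, hi, hj, hji, h1, h2, h3,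
      h4, h5, smul_neg]
    module

end Quat

/-- The two factors. -/
theorem zero_divisor {R : Type*} [Ring R] [NoZeroDivisors R] {A B S J J' : R} {w s m : R}
    (hA : A * A + m * (B * B) = -4) (hS : S * S = 5) (hJ : J * J = -m) (hJ' : J' * J' = -2)
    (hJJ : J' * J = -(J * J'))
    (hwv : ∀ v : R, Commute w v) (hsv : ∀ v : R, Commute s v)
    (hw : 2 * (w * w) - 5 * (s * s) = m)
    (hAB : Commute A B) (hAS : Commute A S) (hBS : Commute B S) (hAJ : Commute A J) (hBJ : Commute B J)
    (hSJ : Commute S J) (hAJ' : Commute A J') (hBJ' : Commute B J') (hSJ' : Commute S J') :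
    w * (J * J') * 4 = 0 := by
  have hmv : ∀ v : R, Commute m v := fun v => hw ▸
    (((Commute.ofNat_left 2 v).mul_left ((hwv v).mul_left (hwv v))).sub_left
      ((Commute.ofNat_left 5 v).mul_left ((hsv v).mul_left (hsv v))))
  set F := A + B * J with hF
  set F' := A - B * J with hF'
  set G := s * S + J with hG
  set G' := s * S - J with hG'
  have hsSJ : Commute (s * S) J := (hsv J).mul_left hSJ
  have hABJ : Commute A (B * J) := hAB.mul_right hAJ
  have e1 : F * F' = -4 := by
    rw [hF, hF', ← hABJ.mul_self_sub_mul_self_eq, hBJ.symm.mul_mul_mul_comm, hJ, mul_neg, sub_neg_eq_add,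
      ← (hmv (B * B)).eq, hA]
  have e2 : G * G' = 5 * (s * s) + m := by
    rw [hG, hG', ← hsSJ.mul_self_sub_mul_self_eq, (hsv S).symm.mul_mul_mul_comm, hJ, hS, sub_neg_eq_add,
      ← (Commute.ofNat_left 5 (s * s)).eq]
  have e3 : Commute G F' := by
    have hA' : Commute (s * S) A := (hsv A).mul_left hAS.symm
    have hB' : Commute (s * S) B := (hsv B).mul_left hBS.symm
    exact ((hA'.sub_right (hB'.mul_right hsSJ)).add_left
      (hAJ.symm.sub_right (hBJ.symm.mul_right (Commute.refl J))))
  set P := F * G with hP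
  set P' := F' * G' with hP'
  have e4 : P * P' = -(8 * (w * w)) := by
    rw [hP, hP', e3.mul_mul_mul_comm, e1, e2,
      show 5 * (s * s) + m = 2 * (w * w) by rw [← hw]; abel, neg_mul, ← mul_assoc]
    norm_num
  have f1 : F * J' = J' * F' := by
    rw [hF, hF', add_mul, mul_sub, hAJ'.eq, ← mul_assoc J' B, ← hBJ'.eq, mul_assoc B J' J, hJJ, mul_neg,
      sub_neg_eq_add, mul_assoc]
  have f2 : G * J' = J' * G' := by
    rw [hG, hG', add_mul, mul_sub, hJJ, sub_neg_eq_add, ((hsv J').mul_left hSJ').eq]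
  have e5 : P * J' = J' * P' := by
    rw [hP, hP', mul_assoc, f2, ← mul_assoc, f1, mul_assoc]
  set c := w + w with hc
  have hcv : ∀ v : R, Commute c v := fun v => (hwv v).add_left (hwv v)
  have e6 : (P + c * J') * (P' - c * J') = 0 := by
    rw [add_mul, mul_sub, mul_sub, e4, ← mul_assoc P c J', ← (hcv P).eq, mul_assoc c P J', e5, ← mul_assoc c J' P',
      (hcv J').symm.mul_mul_mul_comm, hJ', mul_neg, hc]
    noncomm_ring
  have hPJ : Commute P J := by
    have hFJ : Commute F J := hAJ.add_left (hBJ.mul_left (Commute.refl J))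
    exact hFJ.mul_left (hsSJ.add_left (Commute.refl J))
  have hP'J : Commute P' J := by
    have hFJ : Commute F' J := hAJ.sub_left (hBJ.mul_left (Commute.refl J))
    exact hFJ.mul_left (hsSJ.sub_left (Commute.refl J))
  have hfin : Commute (c * J') J := by
    rcases mul_eq_zero.mp e6 with h | h
    · rw [eq_neg_of_add_eq_zero_right h]; exact hPJ.neg_left
    · rw [← sub_eq_zero.mp h]; exact hP'J
  have h := hfin.eq
  rw [mul_assoc, hJJ, ← mul_assoc J c J', ← (hcv J).eq, mul_assoc, mul_neg, ← sub_eq_zero, hc] at h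
  calc w * (J * J') * 4 = -(-((w + w) * (J * J')) - (w + w) * (J * J')) := by noncomm_ring
    _ = 0 := by rw [h, neg_zero]

theorem aeval_commute {D : Type*} [DivisionRing D] [CharZero D] (p : Polynomial ℚ) {y v : D}
    (h : Commute y v) : Commute (Polynomial.aeval y p) v := by
  induction p using Polynomial.induction_on' with
  | add p q hp hq => rw [map_add]; exact hp.add_left hq
  | monomial n a =>
    rw [Polynomial.aeval_monomial]
    exact Commute.mul_left (show Commute (algebraMap ℚ D a) v from Algebra.commutes a v) (h.pow_left n)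

/-- No element of prime order `q ≥ 7` commutes with `SL(2,5)`. -/
theorem no_prime {D : Type*} [DivisionRing D] [CharZero D] (Φ : SL25 →* D) (hΦ : Function.Injective Φ)
    {y : D} {q : ℕ} (hq : q.Prime) (h7 : 7 ≤ q) (hy : y ^ q = 1) (hy1 : y ≠ 1)
    (hcomm : ∀ g, Commute y (Φ g)) : False := by
  obtain ⟨m, hm, h8, h5, hdvd⟩ := exists_prime hq h7
  haveI : Fact m.Prime := ⟨hm⟩
  obtain ⟨Y, Z, hYZ⟩ := exists_period_identity (m := m) (by omega)
  obtain ⟨a, b, hab⟩ := exists_two_sq (m := m) h8
  obtain ⟨w, s, hws, hw0⟩ := exists_ten_form (m := m) h8 h5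
  obtain ⟨e, he⟩ : ∃ e, e + e = q + 1 := by
    obtain ⟨e, he⟩ : Even (q + 1) := by
      rcases hq.eq_two_or_odd' with h | h
      · omega
      · exact h.add_one
    exact ⟨e, he.symm⟩
  have hye : y ^ e * y ^ e = y := by rw [← pow_add, he, pow_succ, hy, one_mul]
  have hyY : ∀ p : Polynomial ℚ, Commute (Polynomial.aeval y p) (y ^ e) :=
    fun p => (aeval_commute p (Commute.refl y)).pow_right e
  set A := Polynomial.aeval y Y * y ^ e with hA
  set B := Polynomial.aeval y Z * y ^ e with hB
  have hsum : (∑ i ∈ Finset.range m, y ^ i) * y = -1 := by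
    obtain ⟨t, ht⟩ := hdvd
    have h0 : ∑ i ∈ Finset.range (m + 1), y ^ i = 0 := by
      have h := geom_sum_mul y (m + 1)
      rw [ht, pow_mul, hy, one_pow, sub_self, ← ht] at h
      exact (mul_eq_zero.mp h).resolve_right (sub_ne_zero.mpr hy1)
    rw [Finset.sum_range_succ', pow_zero] at h0
    rw [Finset.sum_mul, eq_neg_iff_add_eq_zero]
    rw [← h0]
    congr 1
    exact Finset.sum_congr rfl fun k _ => (pow_succ y k).symm
  have hAB4 : A * A + (m : D) * (B * B) = -4 := by
    have h := congrArg (Polynomial.aeval y) hYZ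
    simp only [map_add, map_mul, map_pow, map_natCast, map_ofNat, map_sum, Polynomial.aeval_X] at h
    rw [hA, hB, (hyY Y).symm.mul_mul_mul_comm, (hyY Z).symm.mul_mul_mul_comm, hye, ← mul_assoc (m : D), ← add_mul,
      ← pow_two, ← pow_two, h, mul_assoc, hsum, mul_neg_one]
  set i := Φ gi with hidef
  set j := Φ gy with hjdef
  set S := root5 Φ with hSdef
  have hi := gi_sq Φ hΦ
  have hj := gy_sq Φ hΦ
  have hji := gy_gi Φ hΦ
  obtain ⟨q1, q2, q3⟩ := quat_forms hi hj hji a b
  rw [hab, Int.cast_natCast] at q1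
  have hAcomm : ∀ p : Polynomial ℚ, ∀ v, Commute y v → Commute (Polynomial.aeval y p * y ^ e) v :=
    fun p v h => (aeval_commute p h).mul_left (h.pow_left e)
  have hyS : Commute y S := by
    rw [hSdef, root5]
    exact ((Commute.ofNat_right y 2).mul_right ((hcomm _).add_right (hcomm _))).add_right (Commute.one_right y)
  have hyJ : Commute y (a • i + b • j + b • (i * j)) :=
    (((hcomm _).smul_right a).add_right ((hcomm _).smul_right b)).add_right
      (((hcomm _).mul_right (hcomm _)).smul_right b)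
  have hyJ' : Commute y (j - i * j) := (hcomm _).sub_right ((hcomm _).mul_right (hcomm _))
  have hSi := root5_commute Φ hΦ gi
  have hSj := root5_commute Φ hΦ gy
  have key := zero_divisor (A := A) (B := B) (S := S) (J := a • i + b • j + b • (i * j)) (J' := j - i * j)
    (w := (w : D)) (s := (s : D)) hAB4 (root5_sq Φ hΦ).1 q1 (by rw [q2]; norm_num) q3
    (fun v => Int.cast_commute w v) (fun v => Int.cast_commute s v)
    (by exact_mod_cast congrArg (Int.cast : ℤ → D) (by rw [← hws]; ring : 2 * (w * w) - 5 * (s * s) = (m : ℤ)))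
    (hAcomm Y B ((hAcomm Z y (Commute.refl y)).symm))
    (hAcomm Y S hyS) (hAcomm Z S hyS) (hAcomm Y _ hyJ) (hAcomm Z _ hyJ)
    (((hSi.smul_right a).add_right (hSj.smul_right b)).add_right ((hSi.mul_right hSj).smul_right b))
    (hAcomm Y _ hyJ') (hAcomm Z _ hyJ') (hSj.sub_right (hSi.mul_right hSj))
  have h4 : (4 : D) ≠ 0 := by norm_num
  have hwne : (w : D) ≠ 0 := Int.cast_ne_zero.mpr hw0
  rcases mul_eq_zero.mp key with h | h
  · rcases mul_eq_zero.mp h with h | h
    · exact hwne h
    rcases mul_eq_zero.mp h with h | h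
    · rw [h, mul_zero] at q1
      exact hm.ne_zero (Nat.cast_eq_zero.mp (neg_eq_zero.mp q1.symm))
    · rw [h, mul_zero] at q2
      norm_num at q2
  · exact h4 h

end CfsgLib.DivSL25
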