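import Mathlib
import Cfsg.Agent.Zass.ZQuot
import Cfsg.Agent.DivSL25.NoPrime

/-!
Finite non-solvable subgroups of the multiplicative group of a division ring.
-/

set_option autoImplicit false

namespace CfsgLib.DivSL25

open CfsgLib.Frob CfsgLib.Zass

universe u

variable {D : Type u} [DivisionRing D]

theorem isSolvable_of_charP {p : ℕ} [hp : Fact p.Prime] [CharP D p] (H : Subgroup Dˣ) [Finite H] :
    Group.IsSolvable H := by
  classical
  let M : Submonoid D := H.toSubmonoid.map (Units.coeHom D)
  have hfin : (M : Set D).Finite := by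
    rw [Submonoid.coe_map]; exact (Set.toFinite (H : Set Dˣ)).image _
  let R : Subring D := Subring.closure (M : Set D)
  haveI : Finite R := by
    haveI : AddGroup.FG (AddSubgroup.closure (M : Set D)) := by
      haveI := hfin.to_subtype
      exact AddGroup.closure_finite_fg _
    haveI : Finite (AddSubgroup.closure (M : Set D)) :=
      AddCommGroup.finite_of_fg_torsion _ fun x => isOfFinAddOrder_iff_nsmul_eq_zero.mpr
        ⟨p, hp.out.pos, Subtype.ext (by
          rw [AddSubgroup.coe_nsmul, nsmul_eq_mul, CharP.cast_eq_zero, zero_mul]; rfl)⟩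
    have e : (R : Set D) = AddSubgroup.closure (M : Set D) := by
      ext x
      rw [SetLike.mem_coe, SetLike.mem_coe, Subring.mem_closure_iff, Submonoid.closure_eq]
    exact Set.Finite.to_subtype (e ▸ Set.toFinite _)
  have hF := Finite.isDomain_to_isField R
  refine isSolvable_of_comm fun a b => ?_
  have hmem : ∀ c : H, ((c : Dˣ) : D) ∈ R := fun c => Subring.subset_closure ⟨c, c.2, rfl⟩
  have h := congrArg Subtype.val (hF.mul_comm ⟨_, hmem a⟩ ⟨_, hmem b⟩)
  exact Subtype.ext (Units.ext h)

theorem latFpf_of_charZero [CharZero D] (H : Subgroup Dˣ) [Finite H] : LatFpf H := by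
  let W : Submodule ℤ D := Submodule.span ℤ (Set.range fun c : H => ((c : Dˣ) : D))
  haveI : Module.Finite ℤ W := Module.Finite.iff_fg.mpr (Submodule.fg_span (Set.finite_range _))
  haveI : IsAddTorsionFree D := inferInstance
  haveI : Module.IsTorsionFree ℤ W := inferInstance
  haveI : Module.Free ℤ W := Module.free_of_finite_type_torsion_free'
  haveI : Nontrivial W := ⟨⟨⟨1, Submodule.subset_span ⟨1, rfl⟩⟩, 0, fun e => one_ne_zero (congrArg Subtype.val e)⟩⟩
  have hst : ∀ c : H, ∀ x ∈ W, ((c : Dˣ) : D) * x ∈ W := by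
    intro c x hx
    induction hx using Submodule.span_induction with
    | mem x hx => obtain ⟨d, rfl⟩ := hx; exact Submodule.subset_span ⟨c * d, by simp⟩
    | zero => rw [mul_zero]; exact W.zero_mem
    | add x y _ _ hx hy => rw [mul_add]; exact W.add_mem hx hy
    | smul r x _ hx => rw [mul_smul_comm]; exact W.smul_mem r hx
  let ρ : Representation ℤ H W :=
    { toFun := fun c => (LinearMap.mulLeft ℤ ((c : Dˣ) : D)).restrict (hst c)
      map_one' := by ext x; simp [LinearMap.restrict_apply]
      map_mul' := fun a b => by ext x; simp [mul_assoc]; rfl }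
  refine latFpf_of_lattice ρ fun c hc w hw => ?_
  have h : ((c : Dˣ) : D) * (w : D) = (w : D) := congrArg Subtype.val hw
  have h' : (((c : Dˣ) : D) - 1) * (w : D) = 0 := by rw [sub_mul, h, one_mul, sub_self]
  refine Subtype.ext ((mul_eq_zero.mp h').resolve_left (sub_ne_zero.mpr fun e => hc ?_))
  exact Subtype.ext (Units.ext e)

theorem perm_centralizer_five :
    ∀ r : Equiv.Perm (Fin 5), r ^ 5 = 1 → r ≠ 1 →
      Equiv.Perm.sign r = 1 ∧ ∀ i, ∃ k : Fin 5, (r ^ (k : ℕ)) 0 = i := by decide +kernel

theorem sign_of_commute {p r : Equiv.Perm (Fin 5)} (h5 : r ^ 5 = 1) (h1 : r ≠ 1) (h : Commute p r) :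
    Equiv.Perm.sign p = 1 := by
  obtain ⟨hs, horb⟩ := perm_centralizer_five r h5 h1
  obtain ⟨m, hm⟩ := horb (p 0)
  have hp : p = r ^ (m : ℕ) := by
    refine Equiv.ext fun i => ?_
    obtain ⟨k, rfl⟩ := horb i
    rw [← Equiv.Perm.mul_apply, (h.pow_right k).eq, Equiv.Perm.mul_apply, ← hm, ← Equiv.Perm.mul_apply,
      ← Equiv.Perm.mul_apply, (Commute.pow_pow_self r _ _).eq]
  rw [hp, map_pow, hs, one_pow]

/-- The concluding computation. -/
theorem final_contradiction [CharZero D] (a j S : D) (h4 : a * a * (a * a) = -1) (hj : j * j = -1)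
    (hja : j * a = -(a * a * a) * j) (haS : a * S = -S * a) (hS : S * S = 5) (hSj : Commute S j) : False := by
  set θ := a - a * a * a with hθ
  obtain ⟨i, hi'⟩ : ∃ i, i = a * a := ⟨_, rfl⟩
  have hi : i * i = -1 := hi' ▸ h4
  have hθθ : θ * θ = 2 := by
    calc θ * θ = a * a - 2 * (a * a * (a * a)) + a * a * (a * a) * (a * a) := by rw [hθ]; noncomm_ring
      _ = 2 := by rw [h4]; noncomm_ring; norm_num
  have hji : j * i = -(i * j) := by
    calc j * i = j * a * a := by rw [hi']; noncomm_ring
      _ = -(a * a * a) * j * a := by rw [hja]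
      _ = -(a * a * a) * (j * a) := mul_assoc _ _ _
      _ = a * a * (a * a) * (a * a) * j := by rw [hja]; noncomm_ring
      _ = -(i * j) := by rw [h4, hi', neg_one_mul, neg_mul]
  have hθi : Commute θ i := hi' ▸
    ((Commute.refl a).mul_right (Commute.refl a)).sub_left
      ((((Commute.refl a).mul_right (Commute.refl a)).mul_left ((Commute.refl a).mul_right (Commute.refl a))).mul_left
        ((Commute.refl a).mul_right (Commute.refl a)))
  have hja3 : j * (a * a * a) = -a * j := by
    calc j * (a * a * a) = j * i * a := by rw [hi']; noncomm_ring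
      _ = -(i * (j * a)) := by rw [hji]; noncomm_ring
      _ = a * (a * a * (a * a)) * j := by rw [hja, hi']; noncomm_ring
      _ = -a * j := by rw [h4]; noncomm_ring
  have hθj : Commute θ j := by
    show θ * j = j * θ
    rw [hθ, mul_sub, hja, hja3]; noncomm_ring
  have haS' : a * (a * S) = S * (a * a) := by
    rw [haS, ← mul_assoc, mul_neg, neg_mul, haS, neg_mul, neg_mul, neg_neg, mul_assoc]
  have hSi : Commute S i := by
    show S * i = i * S
    rw [hi', mul_assoc a a S, haS']
  have hθS : θ * S = -(S * θ) := by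
    have h3 : a * a * a * S = -(S * (a * a * a)) := by
      calc a * a * a * S = i * (a * S) := by rw [hi']; noncomm_ring
        _ = -(i * S * a) := by rw [haS]; noncomm_ring
        _ = -(S * (a * a * a)) := by rw [← hSi.eq, hi']; noncomm_ring
    rw [hθ, sub_mul, mul_sub, h3, haS]; noncomm_ring
  set P := i + j + i * j with hP
  set Q := θ + S + θ * S with hQ
  have hQi : Commute Q i := (hθi.add_left hSi).add_left (hθi.mul_left hSi)
  have hQj : Commute Q j := (hθj.add_left hSj).add_left (hθj.mul_left hSj)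
  have hQP : Commute Q P := (hQi.add_right hQj).add_right (hQi.mul_right hQj)
  obtain ⟨h1, h2, h3, h4', h5⟩ := quat_rules hi hj hji
  have hP2 : P * P = -3 := by
    rw [hP]
    simp only [mul_add, add_mul, hi, hj, hji, h1, h2, h3, h4', h5]
    abel_nf; norm_num
  have hSθ : S * θ = -(θ * S) := by rw [hθS, neg_neg]
  have g1 : θ * (θ * S) = 2 * S := by rw [← mul_assoc, hθθ]
  have g2 : θ * S * θ = -(2 * S) := by rw [mul_assoc, hSθ, mul_neg, g1]
  have g3 : θ * S * S = θ * 5 := by rw [mul_assoc, hS]
  have g4 : S * (θ * S) = -(θ * 5) := by rw [← mul_assoc, hSθ, neg_mul, g3]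
  have g5 : θ * S * (θ * S) = -10 := by
    rw [← mul_assoc, g2, neg_mul, mul_assoc, hS]; norm_num
  have hQ2 : Q * Q = -3 := by
    rw [hQ]
    simp only [mul_add, add_mul, hθθ, hS, hSθ, g1, g2, g3, g4, g5]
    noncomm_ring; norm_num
  have hPi : Commute P i := by
    rcases hQP.mul_self_eq_mul_self_iff.mp (hQ2.trans hP2.symm) with e | e
    · exact e ▸ hQi
    · have := (e ▸ hQi : Commute (-P) i).neg_left
      rwa [neg_neg] at this
  have e : (1 - i) * j * 2 = 0 := by
    have h := hPi.eq
    rw [hP, ← sub_eq_zero] at h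
    simp only [mul_add, add_mul, hi, hji, h1, h2] at h
    rw [← h]; noncomm_ring
  rcases mul_eq_zero.mp e with e | e
  · rcases mul_eq_zero.mp e with e | e
    · rw [← sub_eq_zero.mp e, one_mul] at hi
      norm_num at hi
    · rw [e, mul_zero] at hj
      norm_num at hj
  · norm_num at e

theorem isSolvable_perm_four : Group.IsSolvable (Equiv.Perm (Fin 4)) := by
  refine CfsgLib.CharBasics.isSolvable_two_primes 2 3 fun r hr hd => ?_
  rw [Nat.card_perm, Nat.card_fin, show (4 : ℕ).factorial = 24 from rfl] at hd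
  have hle := Nat.le_of_dvd (by norm_num) hd
  revert hr hd
  interval_cases r <;> norm_num

section IndexTwo

variable [CharZero D] {H : Subgroup Dˣ} [Finite H]

/-- Index two does not occur. -/
theorem not_index_two (T : Subgroup H) [hTn : T.Normal] (e : T ≃* SL25) (hperf : ⁅T, T⁆ = T)
    (hidx : T.index = 2) : False := by
  classical
  haveI : Fact (Nat.Prime 2) := ⟨Nat.prime_two⟩
  haveI : Fact (Nat.Prime 5) := ⟨by norm_num⟩
  have h := latFpf_of_charZero H
  let κ : H →* D := (Units.coeHom D).comp H.subtype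
  have hκ : Function.Injective κ := Units.val_injective.comp Subtype.val_injective
  let ι : SL25 →* H := T.subtype.comp e.symm.toMonoidHom
  have hι : Function.Injective ι := Subtype.val_injective.comp e.symm.injective
  have hιT : ∀ g, ι g ∈ T := fun g => (e.symm g).2
  have hιs : ∀ t ∈ T, ∃ g, ι g = t := fun t ht => ⟨e ⟨t, ht⟩, congrArg Subtype.val (e.symm_apply_apply _)⟩
  let Φ : SL25 →* D := κ.comp ι
  have hΦ : Function.Injective Φ := hκ.comp hι
  have hcardT : Nat.card T = 120 := (Nat.card_congr e.toEquiv).trans card_SL25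
  have hcardH : Nat.card H = 240 := by rw [← T.card_mul_index, hcardT, hidx]
  haveI : Nontrivial T := by rw [← Finite.one_lt_card_iff_nontrivial, hcardT]; norm_num
  have hperf' : commutator T = ⊤ := by
    apply Subgroup.map_injective T.subtype_injective
    rw [Subgroup.map_subtype_commutator, ← MonoidHom.range_eq_map, Subgroup.range_subtype, hperf]
  have hTns : ¬ Group.IsSolvable T := not_solvable_of_perfect hperf'
  have hns : ¬ Group.IsSolvable H := fun hs => hTns (by haveI := hs; infer_instance)
  -- the quotient is the symmetric group of degree five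
  obtain ⟨N, hNn, hNZ, hq⟩ := exists_perfQ h hns
  have hsolv : ∀ (Q : Type) [Group Q] [Group.IsSolvable Q] (f : H →* Q), f.ker = N → False := by
    intro Q _ _ f hf
    have hb : ⁅(T.map f), (T.map f)⁆ = T.map f := by rw [← Subgroup.map_commutator, hperf]
    have hbot : T.map f = ⊥ := by
      by_contra hne
      haveI : Nontrivial (T.map f) := (Subgroup.nontrivial_iff_ne_bot _).mpr hne
      refine not_solvable_of_perfect (G := T.map f) ?_ inferInstance
      apply Subgroup.map_injective (T.map f).subtype_injective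
      rw [Subgroup.map_subtype_commutator, ← MonoidHom.range_eq_map, Subgroup.range_subtype, hb]
    rw [Subgroup.map_eq_bot_iff, hf] at hbot
    haveI : IsZGroup T := IsZGroup.of_injective (Subgroup.inclusion_injective hbot)
    exact hTns inferInstance
  have hq' : ∃ f : H →* Equiv.Perm (Fin 5), Function.Surjective f := by
    rcases hq with ⟨f, -, hk⟩ | ⟨f, -, hk⟩ | ⟨f, -, hk⟩ | ⟨f, hf, -⟩ | ⟨f, hf, -⟩
    · haveI : Group.IsSolvable (DihedralGroup 2) := isSolvable_of_comm fun a b => (klein_sq a).2 b
      exact (hsolv _ f hk).elim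
    · haveI := isSolvable_perm_four
      exact (hsolv _ f hk).elim
    · haveI := isSolvable_perm_four
      exact (hsolv _ f hk).elim
    · exfalso
      -- a cyclic normal subgroup of order four would be centralised by `T`
      have hK : Nat.card f.ker = 4 := by
        have h1 := f.ker.card_mul_index
        rw [Subgroup.index_ker, MonoidHom.range_eq_top.mpr hf, Subgroup.card_top, nat_card_alternatingGroup,
          Nat.card_fin, hcardH] at h1
        rw [show (5 : ℕ).factorial / 2 = 60 from rfl] at h1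
        omega
      have hK2 : IsPGroup 2 f.ker := IsPGroup.of_card (n := 2) hK
      have hKc : IsCyclic f.ker := by
        rcases h.sylow_cyclic_or_quaternion hK2 with hc | ⟨-, k, hk, ⟨e'⟩⟩
        · exact hc
        · have h4 := (Nat.card_congr e'.toEquiv).symm.trans hK
          haveI : NeZero (2 ^ k) := ⟨by positivity⟩
          rw [Nat.card_eq_fintype_card, QuaternionGroup.card] at h4
          have : 2 ≤ 2 ^ k := le_self_pow₀ (by norm_num) (by omega)
          omega
      letI : CommGroup f.ker := IsCyclic.commGroup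
      obtain ⟨w, hw⟩ := hKc.exists_ofOrder_eq_natCard
      rw [hK] at hw
      have hTK : ∀ t ∈ T, Commute t (w : H) := by
        intro t ht
        haveI := hKc
        let ψ : T →* MulAut f.ker := (MulAut.conjNormal : H →* MulAut f.ker).comp T.subtype
        have hψ : ψ ⟨t, ht⟩ = 1 := by
          letI : CommGroup (MulAut f.ker) :=
            { (inferInstance : Group (MulAut f.ker)) with
              mul_comm := fun a b => (IsCyclic.mulAutMulEquiv f.ker).injective (by rw [map_mul, map_mul, mul_comm]) }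
          exact MonoidHom.mem_ker.mp (Abelianization.commutator_subset_ker ψ (hperf'.symm ▸ Subgroup.mem_top _))
        have h2 := congrArg (fun v : MulAut f.ker => ((v w : f.ker) : H)) hψ
        simp only [ψ, MonoidHom.comp_apply, Subgroup.coe_subtype, MulAut.conjNormal_apply, MulAut.one_apply] at h2
        exact mul_inv_eq_iff_eq_mul.mp h2
      have hwo : orderOf (w : H) = 4 := by rw [Subgroup.orderOf_coe, hw]
      have hww : κ w * κ w = -1 := by
        have h2 : orderOf ((w : H) ^ 2) = 2 := by rw [orderOf_pow, hwo]; norm_num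
        have hz : orderOf (ι gz) = 2 := by
          rw [orderOf_injective ι hι]; exact orderOf_eq_prime (by decide +kernel) (by decide +kernel)
        rw [← map_mul, ← pow_two, eq_of_involution h h2 hz]
        exact map_gz Φ hΦ
      have hc1 : ∀ g, Commute (κ w) (Φ g) := fun g => (hTK _ (hιT g)).symm.map κ
      have hor : κ w = Φ gi ∨ κ w = -Φ gi := (hc1 gi).mul_self_eq_mul_self_iff.mp (by rw [hww, gi_sq Φ hΦ])
      have hcc : Commute (Φ gi) (Φ gy) := by
        rcases hor with e' | e'
        · exact e' ▸ hc1 gy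
        · have := (e' ▸ hc1 gy : Commute (-Φ gi) (Φ gy)).neg_left
          rwa [neg_neg] at this
      have h0 := gy_gi Φ hΦ
      rw [← hcc.eq, eq_neg_iff_add_eq_zero, ← two_mul, mul_eq_zero, or_iff_right two_ne_zero] at h0
      rcases mul_eq_zero.mp h0 with e' | e'
      · have := gi_sq Φ hΦ; rw [e', mul_zero] at this; norm_num at this
      · have := gy_sq Φ hΦ; rw [e', mul_zero] at this; norm_num at this
    · exact ⟨f, hf⟩
  obtain ⟨f, hf⟩ := hq'
  have hsign : (Equiv.Perm.sign.comp f).ker = T := by
    symm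
    refine Subgroup.eq_of_le_of_card_ge ?_ ?_
    · intro t ht
      exact congrArg (fun x => x) (MonoidHom.mem_ker.mp (Abelianization.commutator_subset_ker
        ((Equiv.Perm.sign.comp f).comp T.subtype) (hperf'.symm ▸ Subgroup.mem_top (⟨t, ht⟩ : T))))
    · have hsurj : Function.Surjective (Equiv.Perm.sign.comp f) :=
        (Equiv.Perm.sign_surjective (Fin 5)).comp hf
      have h1 := (Equiv.Perm.sign.comp f).ker.card_mul_index
      rw [Subgroup.index_ker, MonoidHom.range_eq_top.mpr hsurj, Subgroup.card_top, hcardH,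
        show Nat.card ℤˣ = 2 by simp] at h1
      rw [hcardT]
      omega
  -- an element outside `T` normalising the subgroup of order five
  set x := ι gx with hxdef
  have hx5 : orderOf x = 5 := by
    rw [hxdef, orderOf_injective ι hι]; exact orderOf_eq_prime (by decide +kernel) (by decide +kernel)
  have hfx : f x ^ 5 = 1 ∧ f x ≠ 1 := by
    refine ⟨by
      have h0 := pow_orderOf_eq_one x
      rw [hx5] at h0
      rw [← map_pow, h0, map_one], fun e' => ?_⟩
    have hk : Nat.card f.ker = 2 := by
      have h1 := f.ker.card_mul_index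
      rw [Subgroup.index_ker, MonoidHom.range_eq_top.mpr hf, Subgroup.card_top, Nat.card_perm, Nat.card_fin,
        hcardH, show (5 : ℕ).factorial = 120 from rfl] at h1
      omega
    have := Subgroup.orderOf_dvd_natCard f.ker (MonoidHom.mem_ker.mpr e')
    rw [hx5, hk] at this
    norm_num at this
  have hPcard : Nat.card (Subgroup.zpowers (e.symm gx)) = 5 ^ (Nat.card T).factorization 5 := by
    rw [hcardT, Nat.card_zpowers, ← Subgroup.orderOf_coe]
    show orderOf x = _
    rw [hx5, show (120 : ℕ) = 5 ^ 1 * 24 from rfl, Nat.factorization_mul (by norm_num) (by norm_num),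
      Finsupp.add_apply, Nat.Prime.factorization_pow (by norm_num), Finsupp.single_eq_same,
      Nat.factorization_eq_zero_of_not_dvd (by norm_num)]
    rfl
  let P5 : Sylow 5 T := Sylow.ofCard (Subgroup.zpowers (e.symm gx)) hPcard
  have hP5 : (P5 : Subgroup T).map T.subtype = Subgroup.zpowers x := MonoidHom.map_zpowers T.subtype (e.symm gx)
  have hsup := Sylow.normalizer_sup_eq_top P5
  obtain ⟨w, hw, hwT⟩ : ∃ w, w * x * w⁻¹ ∈ Subgroup.zpowers x ∧ w ∉ T := by
    by_contra hc
    push Not at hc
    have hle : Subgroup.normalizer (((P5 : Subgroup T).map T.subtype : Subgroup H) : Set H) ≤ T := fun v hv => by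
      rw [hP5] at hv
      exact hc v ((Subgroup.mem_normalizer_iff.mp hv x).mp (Subgroup.mem_zpowers x))
    rw [sup_eq_right.mpr hle] at hsup
    rw [hsup, Subgroup.index_top] at hidx
    omega
  -- it maps the root of five to its negative
  obtain ⟨i, hi⟩ := Subgroup.mem_zpowers_iff.mp hw
  have hxz : ∀ n : ℤ, x ^ n = x ^ (n % 5) := fun n => by
    have := zpow_mod_orderOf x n
    rw [hx5] at this
    exact this.symm
  have hodd : ∀ v : H, v ∉ T → ¬ Commute v x := fun v hv hc => hv (hsign ▸
    (MonoidHom.mem_ker.mpr (sign_of_commute hfx.1 hfx.2 (hc.map f))))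
  set S := root5 Φ with hSdef
  have hconj : κ w * S = -S * κ w := by
    obtain ⟨r1, r2⟩ := root5_sq Φ hΦ
    have hw1 : κ w * κ w⁻¹ = 1 := by rw [← map_mul, mul_inv_cancel, map_one]
    have hw2 : κ w⁻¹ * κ w = 1 := by rw [← map_mul, inv_mul_cancel, map_one]
    have himg : κ (w * x * w⁻¹) + κ (w * x * w⁻¹)⁻¹ = Φ (gx * gx) + Φ (gx * gx)⁻¹ := by
      have hlt := Int.emod_lt_of_pos i (show (0 : ℤ) < 5 by norm_num)
      have hge := Int.emod_nonneg i (show (5 : ℤ) ≠ 0 by norm_num)
      rw [← hi, hxz i]
      interval_cases hi5 : i % 5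
      · exfalso
        have e1 : w * x * w⁻¹ = 1 := by rw [← hi, hxz i, hi5, zpow_zero]
        rw [conj_eq_one_iff] at e1
        rw [e1, orderOf_one] at hx5
        omega
      · exfalso
        exact hodd w hwT (mul_inv_eq_iff_eq_mul.mp (by rw [← hi, hxz i, hi5, zpow_one]))
      · rw [hxdef, ← map_zpow, show gx ^ (2 : ℤ) = gx * gx by decide +kernel, ← map_inv]
        rfl
      · rw [hxdef, ← map_zpow, show gx ^ (3 : ℤ) = (gx * gx)⁻¹ by decide +kernel, ← map_inv, inv_inv,
          add_comm]
        rfl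
      · exfalso
        obtain ⟨d, hd⟩ : ∃ d : SL25, d * gx * d⁻¹ = gx ^ 4 :=
          ⟨gi, by decide +kernel⟩
        have hd' : ι d * x * (ι d)⁻¹ = x ^ (4 : ℤ) := by
          rw [hxdef, ← map_inv, ← map_mul, ← map_mul, hd, map_pow]; rfl
        have hwx : w * x * w⁻¹ = ι d * x * (ι d)⁻¹ := by rw [hd', ← hi, hxz i, hi5]
        refine hodd ((ι d)⁻¹ * w) (fun hm => hwT ?_) ?_
        · simpa using T.mul_mem (hιT d) hm
        · have hwx' := congrArg (fun v => (ι d)⁻¹ * v * w) hwx
          simp only [mul_assoc, inv_mul_cancel, inv_mul_cancel_left, mul_one] at hwx'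
          show _ = _
          simp only [mul_assoc]
          exact hwx'
    have hA : κ (w * x * w⁻¹) = κ w * Φ gx * κ w⁻¹ := by rw [map_mul, map_mul]; rfl
    have hB : κ (w * x * w⁻¹)⁻¹ = κ w * Φ gx⁻¹ * κ w⁻¹ := by
      rw [mul_inv_rev, mul_inv_rev, inv_inv, ← mul_assoc, map_mul, map_mul, hxdef, ← map_inv ι]; rfl
    have h1 : κ w * S * κ w⁻¹ = 2 * (κ (w * x * w⁻¹) + κ (w * x * w⁻¹)⁻¹) + 1 := by
      rw [hA, hB, hSdef, root5]
      calc κ w * (2 * (Φ gx + Φ gx⁻¹) + 1) * κ w⁻¹
          = 2 * (κ w * Φ gx * κ w⁻¹ + κ w * Φ gx⁻¹ * κ w⁻¹) + κ w * κ w⁻¹ := by noncomm_ring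
        _ = _ := by rw [hw1]
    rw [himg, r2] at h1
    have := congrArg (· * κ w) h1
    simp only [mul_assoc, hw2, mul_one] at this
    rw [this]
  -- the Sylow subgroup of order sixteen
  obtain ⟨P⟩ : Nonempty (Sylow 2 H) := inferInstance
  obtain ⟨a, d, j, q⟩ : ∃ a d : H, ∃ j, Quat (P : Subgroup H) a d j := by
    rcases zgroup_or_quat h with hZ | hq
    · haveI := hZ
      exact (hns inferInstance).elim
    · exact hq P
  obtain rfl : j = 2 := by
    have h1 := q.card
    rw [P.card_eq_multiplicity, hcardH, show (240 : ℕ) = 2 ^ 4 * 15 from rfl,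
      Nat.factorization_mul (by norm_num) (by norm_num), Finsupp.add_apply,
      Nat.Prime.factorization_pow (by norm_num), Finsupp.single_eq_same,
      Nat.factorization_eq_zero_of_not_dvd (by norm_num)] at h1
    have := Nat.pow_right_injective le_rfl h1
    omega
  have ha8 : orderOf a = 8 := by rw [q.ord]; norm_num
  have haT : a ∉ T := by
    intro ha
    have hclaim := claim_of_perfect (h.comp T.subtype T.subtype_injective) hperf'
    have h8 : orderOf (⟨a, ha⟩ : T) = 8 := by rw [← Subgroup.orderOf_coe]; exact ha8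
    have hp : IsPGroup 2 (Subgroup.zpowers (⟨a, ha⟩ : T)) :=
      IsPGroup.of_card (n := 3) (by rw [Nat.card_zpowers, h8]; norm_num)
    obtain ⟨Q, hQ⟩ := hp.exists_le_sylow
    obtain ⟨a', d', q'⟩ := claim_quat (h.comp T.subtype T.subtype_injective) hperf' hclaim Q
    have := q'.orderOf_dvd (hQ (Subgroup.mem_zpowers _))
    rw [h8] at this
    norm_num at this
  have h2mem : ∀ u v : H, u * v ∈ T ↔ (u ∈ T ↔ v ∈ T) := fun u v => Subgroup.mul_mem_iff_of_index_two hidx
  obtain ⟨dd, hddT, hddc, hdd2⟩ : ∃ dd ∈ T, dd * a * dd⁻¹ = a⁻¹ ∧ dd * dd = a ^ 4 := by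
    by_cases hd : d ∈ T
    · exact ⟨d, hd, q.conj, by rw [q.sq]; norm_num⟩
    · have q' := q.change 1
      rw [zpow_one] at q'
      exact ⟨d * a, (h2mem d a).mpr (iff_of_false hd haT), q'.conj, by rw [q'.sq]; norm_num⟩
  have ha2T : a * a ∈ T := (h2mem a a).mpr Iff.rfl
  have hanti : κ a * S = -S * κ a := by
    have hm : w⁻¹ * a ∈ T := (h2mem _ _).mpr (iff_of_false (fun hh => hwT (by simpa using inv_mem hh)) haT)
    obtain ⟨g, hg⟩ := hιs _ hm
    have hc : κ (w⁻¹ * a) * S = S * κ (w⁻¹ * a) := by rw [← hg]; exact (root5_commute Φ hΦ g).symm.eq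
    have ea : κ a = κ w * κ (w⁻¹ * a) := by rw [← map_mul, mul_inv_cancel_left]
    rw [ea, mul_assoc, hc, ← mul_assoc, hconj, mul_assoc]
  have h4 : κ a * κ a * (κ a * κ a) = -1 := by
    have hz : orderOf (ι gz) = 2 := by
      rw [orderOf_injective ι hι]; exact orderOf_eq_prime (by decide +kernel) (by decide +kernel)
    have h2 : orderOf (a ^ 4) = 2 := by rw [orderOf_pow, ha8]; norm_num
    rw [← map_mul, ← map_mul, show a * a * (a * a) = a ^ 4 by simp only [pow_succ, pow_zero, one_mul, mul_assoc], eq_of_involution h h2 hz]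
    exact map_gz Φ hΦ
  have hjj : κ dd * κ dd = -1 := by
    rw [← map_mul, hdd2, ← h4, ← map_mul, ← map_mul]; congr 1; simp only [pow_succ, pow_zero, one_mul, mul_assoc]
  have hja : κ dd * κ a = κ a⁻¹ * κ dd := by
    rw [← map_mul, ← map_mul, ← hddc]; congr 1; group
  have hainv : κ a⁻¹ = -(κ a * κ a * κ a) := by
    have h1 : κ a⁻¹ * κ a = 1 := by rw [← map_mul, inv_mul_cancel, map_one]
    calc κ a⁻¹ = -(κ a⁻¹ * (κ a * κ a * (κ a * κ a))) := by rw [h4, mul_neg_one, neg_neg]
      _ = -(κ a⁻¹ * κ a * (κ a * κ a * κ a)) := by simp only [mul_assoc]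
      _ = _ := by rw [h1, one_mul]
  have hSd : Commute S (κ dd) := by
    obtain ⟨g, hg⟩ := hιs _ hddT
    rw [← hg]; exact root5_commute Φ hΦ g
  exact final_contradiction (κ a) (κ dd) S h4 hjj (hja.trans (by rw [hainv])) hanti (root5_sq Φ hΦ).1 hSd

end IndexTwo

/-- A finite non-solvable subgroup of the multiplicative group is `SL(2,5)`. -/
theorem iso_SL25_of_nonsolvable (H : Subgroup Dˣ) [Finite H] (hH : ¬ Group.IsSolvable H) :
    Nonempty (H ≃* SL25) := by
  obtain ⟨p, hp⟩ := CharP.exists D
  rcases CharP.char_is_prime_or_zero D p with hpp | rfl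
  · haveI := Fact.mk hpp
    exact absurd (isSolvable_of_charP (p := p) H) hH
  haveI : CharZero D := CharP.charP_to_charZero D
  obtain ⟨T, N, hTn, -, -, ⟨e⟩, hTp, hTN, hcomm, -, hco, hidx⟩ :=
    exists_split (latFpf_of_charZero H) hH
  haveI := hTn
  let κ : H →* D := (Units.coeHom D).comp H.subtype
  have hκ : Function.Injective κ := Units.val_injective.comp Subtype.val_injective
  have hN : N = ⊥ := by
    by_contra hN
    obtain ⟨q, hq, hqd⟩ := Nat.exists_prime_and_dvd (fun e1 => hN (Subgroup.card_eq_one.mp e1))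
    haveI := Fact.mk hq
    obtain ⟨y, hy⟩ := exists_prime_orderOf_dvd_card' (G := N) q hqd
    have hq30 : ¬ q ∣ 30 := fun hd => by
      have := Nat.eq_one_of_dvd_coprimes hco hqd hd
      exact hq.ne_one this
    have h7 : 7 ≤ q := by
      by_contra h7
      have h2 := hq.two_le
      revert hq hq30; interval_cases q <;> norm_num
    refine no_prime (κ.comp (T.subtype.comp e.symm.toMonoidHom)) ?_ hq h7 (y := κ y) ?_ ?_ fun g => ?_
    · exact hκ.comp (Subtype.val_injective.comp e.symm.injective)
    · rw [← map_pow, ← hy, ← Subgroup.orderOf_coe, pow_orderOf_eq_one, map_one]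
    · exact fun e1 => ne_one_of_prime hq hy (Subtype.ext (hκ (e1.trans (map_one κ).symm)))
    · exact (Commute.map (show Commute (y : H) (e.symm g : H) from (hcomm _ (e.symm g).2 _ y.2).symm) κ)
  subst hN
  rw [sup_bot_eq] at hidx
  rcases hidx with h1 | h2
  · rw [Subgroup.index_eq_one] at h1
    subst h1
    exact ⟨Subgroup.topEquiv.symm.trans e⟩
  · exact (not_index_two T e hTp h2).elim

end CfsgLib.DivSL25
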